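import Groth.Agent.Lib.LiftTest.Artinian
import Mathlib.AlgebraicGeometry.Morphisms.Smooth

/-!
# Formal smoothness of a stalk map and lifting against thickenings of local schemes
-/

universe u

namespace GrothLib.LiftTest

open CategoryTheory AlgebraicGeometry IsLocalRing

theorem exists_fac {X : Scheme.{u}} {R : Type u} [CommRing R] [IsLocalRing R]
    (γ : Spec (CommRingCat.of R) ⟶ X) (x : X) (h : γ (closedPoint R) = x) :
    ∃ g : X.presheaf.stalk x ⟶ CommRingCat.of R, IsLocalHom g.hom ∧
      Spec.map g ≫ X.fromSpecStalk x = γ := by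
  subst h
  exact ⟨Scheme.stalkClosedPointTo γ, inferInstance, Scheme.Spec_stalkClosedPointTo_fromSpecStalk γ⟩

theorem isLocalHom_of_surjective {B' B : Type u} [CommRing B'] [CommRing B] [IsLocalRing B']
    [Nontrivial B] (φ : B' →+* B) (hφ : Function.Surjective φ) : IsLocalHom φ := ⟨fun a ha => by
  by_contra hna
  obtain ⟨c, hc⟩ := ha.exists_right_inv
  obtain ⟨c, rfl⟩ := hφ c
  have hu : IsUnit (1 - a * c) := isUnit_one_sub_self_of_mem_nonunits _
    (Ideal.mul_mem_right c (maximalIdeal B') hna)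
  have := hu.map φ
  rw [map_sub, map_one, map_mul, hc, sub_self] at this
  exact not_isUnit_zero this⟩

theorem Spec_map_closedPoint {B' B : Type u} [CommRing B'] [CommRing B] [IsLocalRing B']
    [IsLocalRing B] (φ : B' →+* B) [IsLocalHom φ] :
    Spec.map (CommRingCat.ofHom φ) (closedPoint B) = closedPoint B' :=
  IsLocalRing.comap_closedPoint φ

/-- A square zero local test extension deciding formal smoothness. -/
theorem exists_test_extension (R S : Type u) [CommRing R] [CommRing S] [Algebra R S] [IsLocalRing S]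
    [Algebra.EssFiniteType R S] :
    ∃ (B' : Type u) (_ : CommRing B') (_ : IsLocalRing B') (_ : Algebra R B') (φ : B' →ₐ[R] S),
      Function.Surjective φ ∧ RingHom.ker (φ : B' →+* S) ^ 2 = ⊥ ∧
      ∀ g : S →ₐ[R] B', φ.comp g = AlgHom.id R S → Algebra.FormallySmooth R S := by
  obtain ⟨m, p, _, π, hπ⟩ := exists_presentation R S
  haveI : Algebra.FormallyEtale (MvPolynomial (Fin m) R) (Localization.AtPrime p) :=
    .of_isLocalization p.primeCompl
  haveI : Algebra.FormallySmooth R (Localization.AtPrime p) := .comp _ (MvPolynomial (Fin m) R) _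
  haveI : Nontrivial (Localization.AtPrime p ⧸ RingHom.ker π.toRingHom ^ 2) :=
    Ideal.Quotient.nontrivial_iff.2
      (ne_top_of_le_ne_top (RingHom.ker_ne_top π.toRingHom) (Ideal.pow_le_self two_ne_zero))
  haveI : IsLocalRing (Localization.AtPrime p ⧸ RingHom.ker π.toRingHom ^ 2) :=
    IsLocalRing.of_surjective' (Ideal.Quotient.mk _) Ideal.Quotient.mk_surjective
  refine ⟨Localization.AtPrime p ⧸ RingHom.ker π.toRingHom ^ 2, inferInstance, inferInstance,
    inferInstance, π.kerSquareLift, fun a => ?_, ?_, fun g hg => ?_⟩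
  · obtain ⟨c, rfl⟩ := hπ a
    exact ⟨Ideal.Quotient.mk _ c, rfl⟩
  · show RingHom.ker π.kerSquareLift.toRingHom ^ 2 = ⊥
    rw [AlgHom.ker_kerSquareLift, Ideal.cotangentIdeal_square]
  · exact Algebra.FormallySmooth.of_split π g hg

variable {X Y : Scheme.{u}} (f : X ⟶ Y) (x : X)

/-- Lifting against square zero thickenings of local schemes at `x`. -/
def LiftsThickenings : Prop :=
  ∀ (B B' : Type u) [CommRing B] [CommRing B'] [IsLocalRing B] [IsLocalRing B'] (φ : B' →+* B),
    Function.Surjective φ → RingHom.ker φ ^ 2 = ⊥ →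
    ∀ (α : Spec (CommRingCat.of B) ⟶ X) (β : Spec (CommRingCat.of B') ⟶ Y),
      α.base (IsLocalRing.closedPoint B) = x → Spec.map (CommRingCat.ofHom φ) ≫ β = α ≫ f →
      ∃ γ : Spec (CommRingCat.of B') ⟶ X, Spec.map (CommRingCat.ofHom φ) ≫ γ = α ∧ γ ≫ f = β

theorem liftsThickenings_of_formallySmooth (h : (f.stalkMap x).hom.FormallySmooth) :
    LiftsThickenings f x := by
  intro B B' _ _ _ _ φ hφ hφ2 α β hα hcomm
  haveI := isLocalHom_of_surjective φ hφ
  obtain ⟨a, _, rfl⟩ := exists_fac α x hα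
  have hβ : β (closedPoint B') = f x := by
    rw [← Spec_map_closedPoint φ, ← Scheme.Hom.comp_apply, hcomm, Scheme.Hom.comp_apply]
    exact congrArg f.base hα
  obtain ⟨b, _, rfl⟩ := exists_fac β (f x) hβ
  rw [Category.assoc, ← Scheme.SpecMap_stalkMap_fromSpecStalk, ← Spec.map_comp_assoc,
    ← Spec.map_comp_assoc, cancel_mono] at hcomm
  have hba : φ.comp b.hom = a.hom.comp (f.stalkMap x).hom :=
    congrArg CommRingCat.Hom.hom (Spec.map_injective hcomm)
  letI : Algebra (Y.presheaf.stalk (f x)) (X.presheaf.stalk x) := (f.stalkMap x).hom.toAlgebra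
  haveI : Algebra.FormallySmooth (Y.presheaf.stalk (f x)) (X.presheaf.stalk x) := h
  letI : Algebra (Y.presheaf.stalk (f x)) B' := b.hom.toAlgebra
  letI : Algebra (Y.presheaf.stalk (f x)) B := (φ.comp b.hom).toAlgebra
  let φ' : B' →ₐ[Y.presheaf.stalk (f x)] B := { φ with commutes' := fun _ => rfl }
  let a' : X.presheaf.stalk x →ₐ[Y.presheaf.stalk (f x)] B :=
    { a.hom with commutes' := fun r => (DFunLike.congr_fun hba r).symm }
  have hn : IsNilpotent (RingHom.ker (φ' : B' →+* B)) := ⟨2, hφ2⟩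
  let g := Algebra.FormallySmooth.liftOfSurjective a' φ' hφ hn
  refine ⟨Spec.map (CommRingCat.ofHom g.toRingHom) ≫ X.fromSpecStalk x, ?_, ?_⟩
  · rw [← Spec.map_comp_assoc]
    congr 2
    exact CommRingCat.hom_ext (RingHom.ext fun z =>
      Algebra.FormallySmooth.liftOfSurjective_apply a' φ' hφ hn z)
  · rw [Category.assoc, ← Scheme.SpecMap_stalkMap_fromSpecStalk, ← Spec.map_comp_assoc]
    congr 2
    exact CommRingCat.hom_ext (RingHom.ext g.commutes)

theorem formallySmooth_of_liftsThickenings (hft : (f.stalkMap x).hom.EssFiniteType)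
    (H : LiftsThickenings f x) : (f.stalkMap x).hom.FormallySmooth := by
  letI : Algebra (Y.presheaf.stalk (f x)) (X.presheaf.stalk x) := (f.stalkMap x).hom.toAlgebra
  haveI : Algebra.EssFiniteType (Y.presheaf.stalk (f x)) (X.presheaf.stalk x) := hft
  obtain ⟨B', _, _, _, φ, hφ, hφ2, hsplit⟩ :=
    exists_test_extension (Y.presheaf.stalk (f x)) (X.presheaf.stalk x)
  haveI := isLocalHom_of_surjective (φ : B' →+* X.presheaf.stalk x) hφ
  obtain ⟨γ, hγ1, hγ2⟩ := H (X.presheaf.stalk x) B' (φ : B' →+* X.presheaf.stalk x) hφ hφ2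
    (X.fromSpecStalk x)
    (Spec.map (CommRingCat.ofHom (algebraMap (Y.presheaf.stalk (f x)) B')) ≫ Y.fromSpecStalk (f x))
    Scheme.fromSpecStalk_closedPoint (by
      rw [← Scheme.SpecMap_stalkMap_fromSpecStalk, ← Spec.map_comp_assoc]
      congr 2
      exact CommRingCat.hom_ext (RingHom.ext fun r => φ.commutes r))
  have hc : γ (closedPoint B') = x := by
    rw [← Spec_map_closedPoint (φ : B' →+* X.presheaf.stalk x), ← Scheme.Hom.comp_apply, hγ1]
    exact Scheme.fromSpecStalk_closedPoint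
  obtain ⟨g, _, rfl⟩ := exists_fac γ x hc
  rw [← Spec.map_comp_assoc] at hγ1
  have h1 : g ≫ CommRingCat.ofHom (φ : B' →+* X.presheaf.stalk x) = 𝟙 _ := by
    refine Spec.map_injective ((cancel_mono (X.fromSpecStalk x)).1 ?_)
    rw [hγ1, Spec.map_id]
    exact (Category.id_comp _).symm
  rw [Category.assoc, ← Scheme.SpecMap_stalkMap_fromSpecStalk, ← Spec.map_comp_assoc,
    cancel_mono] at hγ2
  have h2 : g.hom.comp (f.stalkMap x).hom = algebraMap (Y.presheaf.stalk (f x)) B' :=
    congrArg CommRingCat.Hom.hom (Spec.map_injective hγ2)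
  exact hsplit { g.hom with commutes' := fun r => DFunLike.congr_fun h2 r }
    (AlgHom.ext fun s => DFunLike.congr_fun (congrArg CommRingCat.Hom.hom h1) s)

end GrothLib.LiftTest
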