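import Groth.Agent.Lib.UnrMono.FieldDim
import Mathlib

/-!
# Smoothness of local algebras tested on Artinian rings with the same residue field
-/

universe u

namespace GrothLib.LiftTest

open IsLocalRing TensorProduct

variable (R S : Type u) [CommRing R] [CommRing S] [Algebra R S]

/-- A localisation of a polynomial ring covering an essentially finite type local algebra. -/
theorem exists_presentation [IsLocalRing S] [Algebra.EssFiniteType R S] :
    ∃ (m : ℕ) (p : Ideal (MvPolynomial (Fin m) R)) (_ : p.IsPrime)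
      (φ : Localization.AtPrime p →ₐ[R] S), Function.Surjective φ := by
  let B := Algebra.EssFiniteType.subalgebra R S
  let M := Algebra.EssFiniteType.submonoid R S
  obtain ⟨m, f, hf⟩ := Algebra.FiniteType.iff_quotient_mvPolynomial''.mp
    (inferInstance : Algebra.FiniteType R B)
  let f' : MvPolynomial (Fin m) R →ₐ[R] S := B.val.comp f
  let p := (maximalIdeal S).comap f'.toRingHom
  refine ⟨m, p, inferInstance, IsLocalization.liftAlgHom (M := p.primeCompl) (f := f') fun y => by
    by_contra h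
    exact y.2 h, fun a => ?_⟩
  obtain ⟨b, s, rfl⟩ := IsLocalization.exists_mk'_eq M a
  obtain ⟨b, rfl⟩ := hf b
  obtain ⟨s', hs'⟩ := hf (s : B)
  have hu : IsUnit (f' s') := by
    show IsUnit ((f s' : B) : S)
    rw [hs']
    exact IsLocalization.map_units S s
  have hs : s' ∈ p.primeCompl := fun h => (mem_maximalIdeal _).1 h hu
  refine ⟨IsLocalization.mk' _ b (⟨s', hs⟩ : p.primeCompl), ?_⟩
  rw [IsLocalization.liftAlgHom_apply, IsLocalization.lift_mk'_spec]
  show ((f b : B) : S) = ((f s' : B) : S) * _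
  rw [hs']
  exact (IsLocalization.mk'_spec' S (f b) s).symm

/-- Lifting against small extensions of Artinian rings with the residue field of `S`. -/
def SmallLift : Prop :=
  ∀ (A' : Type u) [CommRing A'] [IsLocalRing A'] [IsArtinianRing A'] [Algebra R A']
    (I : Ideal A'), I ≠ ⊤ → I * maximalIdeal A' = ⊥ →
    ∀ g₀ : S →ₐ[R] A' ⧸ I,
      (∀ b : S, ¬ IsUnit b → g₀ b ∈ (maximalIdeal A').map (Ideal.Quotient.mk I)) →
      (∀ a' : A', ∃ b : S, g₀ b - Ideal.Quotient.mk I a' ∈ (maximalIdeal A').map (Ideal.Quotient.mk I)) →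
      ∃ g : S →ₐ[R] A', (Ideal.Quotient.mkₐ R I).comp g = g₀

theorem mk_tensor_injective {P K M : Type u} [CommRing P] [CommRing K] [Algebra P K]
    [AddCommGroup M] [Module P M] (hs : Function.Surjective (algebraMap P K))
    (hM : ∀ a ∈ RingHom.ker (algebraMap P K), ∀ v : M, a • v = 0) {v : M}
    (hv : (1 : K) ⊗ₜ[P] v = 0) : v = 0 := by
  choose σ hσ using hs
  have hkey : ∀ (a b : P) (w : M), algebraMap P K a = algebraMap P K b → a • w = b • w := by
    intro a b w hab
    rw [← sub_eq_zero, ← sub_smul]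
    exact hM _ (by rw [RingHom.mem_ker, map_sub, hab, sub_self]) w
  let act : K →ₗ[P] M →ₗ[P] M := LinearMap.mk₂ P (fun c w => σ c • w)
    (fun c c' w => by
      rw [← add_smul]
      exact hkey _ _ w (by rw [map_add, hσ, hσ, hσ]))
    (fun a c w => by
      rw [smul_smul]
      exact hkey _ _ w (by rw [map_mul, hσ, hσ, Algebra.smul_def]))
    (fun c w w' => smul_add _ _ _)
    (fun a c w => smul_comm _ _ _)
  have h := congrArg (TensorProduct.lift act) hv
  rw [map_zero, TensorProduct.lift.tmul] at h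
  rw [← one_smul P v, ← h]
  exact hkey _ _ v (by rw [map_one, hσ])

section key

variable {R S} {P : Type u} [CommRing P] [Algebra R P]

/-- The difference of two lifts of a presentation detects the kernel. -/
theorem map_eq_zero_of_tensor_eq_zero {A' : Type u} [CommRing A'] [IsLocalRing A'] [Algebra R A']
    (π : P →ₐ[R] S) (q : P →ₐ[R] A') (g : S →ₐ[R] A') (I : Ideal A') (hI : I ≤ maximalIdeal A')
    (hIm : I * maximalIdeal A' = ⊥) (hdiff : ∀ a, q a - g (π a) ∈ I)
    (K : Type u) [CommRing K] [Algebra P K] (hsK : Function.Surjective (algebraMap P K))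
    (hq : ∀ a ∈ RingHom.ker (algebraMap P K), q a ∈ maximalIdeal A')
    {x : P} (hx : π x = 0) (hw : (1 : K) ⊗ₜ[P] KaehlerDifferential.D R P x = 0) : q x = 0 := by
  letI : Algebra P A' := q.toRingHom.toAlgebra
  haveI : IsScalarTower R P A' := IsScalarTower.of_algebraMap_eq fun r => (q.commutes r).symm
  have hkill : ∀ z ∈ I, ∀ y ∈ maximalIdeal A', z * y = 0 := fun z hz y hy =>
    Ideal.mem_bot.1 (hIm ▸ Ideal.mul_mem_mul hz hy)
  let D : Derivation R P (I.restrictScalars P) := Derivation.mk'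
    { toFun := fun a => ⟨q a - g (π a), hdiff a⟩
      map_add' := fun a b => Subtype.ext (by
        show q (a + b) - g (π (a + b)) = (q a - g (π a)) + (q b - g (π b))
        rw [map_add, map_add, map_add]
        ring)
      map_smul' := fun r a => Subtype.ext (by
        show q (r • a) - g (π (r • a)) = r • (q a - g (π a))
        rw [map_smul, map_smul, map_smul, smul_sub]) }
    (fun a b => Subtype.ext (by
      show q (a * b) - g (π (a * b)) = q a * (q b - g (π b)) + q b * (q a - g (π a))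
      rw [map_mul, map_mul, map_mul]
      have h0 := hkill _ (hdiff a) _ (hI (hdiff b))
      linear_combination -h0))
  have hL : (1 : K) ⊗ₜ[P] (D x) = 0 := by
    have := congrArg (D.liftKaehlerDifferential.lTensor K) hw
    rw [map_zero, LinearMap.lTensor_tmul, Derivation.liftKaehlerDifferential_comp_D] at this
    exact this
  have hDx := mk_tensor_injective (M := ↥(I.restrictScalars P)) hsK (fun a ha v => Subtype.ext (by
    show q a * (v : A') = 0
    rw [mul_comm]
    exact hkill _ v.2 _ (hq a ha))) hL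
  have := congrArg Subtype.val hDx
  change q x - g (π x) = 0 at this
  rwa [hx, map_zero, sub_zero] at this

variable [IsLocalRing P] [IsLocalRing S]

theorem mem_of_smallLift (h : SmallLift R S) (π : P →ₐ[R] S) (hπ : Function.Surjective π)
    (T : Ideal P) (hT : T ≤ maximalIdeal P) [IsArtinianRing (P ⧸ T)]
    (hJT : maximalIdeal P * RingHom.ker π ≤ T)
    (K : Type u) [CommRing K] [Algebra P K] (hsK : Function.Surjective (algebraMap P K))
    (hker : RingHom.ker (algebraMap P K) ≤ maximalIdeal P)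
    {x : P} (hx : π x = 0) (hw : (1 : K) ⊗ₜ[P] KaehlerDifferential.D R P x = 0) : x ∈ T := by
  have hloc : ∀ a : P, ¬ IsUnit (π a) → a ∈ maximalIdeal P := fun a ha hu => ha (hu.map π)
  have hJm : RingHom.ker π ≤ maximalIdeal P := fun a ha => hloc a (by
    rw [RingHom.mem_ker.1 ha]; exact not_isUnit_zero)
  haveI : Nontrivial (P ⧸ T) := Ideal.Quotient.nontrivial_iff.2
    (ne_top_of_le_ne_top (maximalIdeal.isMaximal P).ne_top hT)
  haveI : IsLocalRing (P ⧸ T) :=
    IsLocalRing.of_surjective' (Ideal.Quotient.mk T) Ideal.Quotient.mk_surjective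
  have hmax : ∀ a ∈ maximalIdeal P, Ideal.Quotient.mk T a ∈ maximalIdeal (P ⧸ T) := by
    intro a ha
    rw [mem_maximalIdeal, mem_nonunits_iff]
    intro hu
    obtain ⟨c, hc⟩ := hu.exists_right_inv
    obtain ⟨c, rfl⟩ := Ideal.Quotient.mk_surjective c
    rw [← map_mul, ← map_one (Ideal.Quotient.mk T), Ideal.Quotient.eq] at hc
    have h1 : (1 : P) ∈ maximalIdeal P := by
      have := sub_mem (Ideal.mul_mem_right c _ ha) (hT hc)
      rwa [sub_sub_cancel] at this
    exact (maximalIdeal.isMaximal P).ne_top ((maximalIdeal P).eq_top_iff_one.2 h1)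
  have hmax' : ∀ y ∈ maximalIdeal (P ⧸ T), ∃ a ∈ maximalIdeal P, Ideal.Quotient.mk T a = y := by
    intro y hy
    obtain ⟨a, rfl⟩ := Ideal.Quotient.mk_surjective y
    exact ⟨a, fun hu => hy (hu.map _), rfl⟩
  let I : Ideal (P ⧸ T) := (RingHom.ker π).map (Ideal.Quotient.mk T)
  have hIle : I ≤ maximalIdeal (P ⧸ T) := Ideal.map_le_iff_le_comap.2 fun a ha => hmax a (hJm ha)
  have hI : I ≠ ⊤ := ne_top_of_le_ne_top (maximalIdeal.isMaximal (P ⧸ T)).ne_top hIle
  have hIm : I * maximalIdeal (P ⧸ T) = ⊥ := by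
    refine le_bot_iff.1 (Ideal.mul_le.2 fun z hz y hy => ?_)
    obtain ⟨a, ha, rfl⟩ := (Ideal.mem_map_iff_of_surjective _ Ideal.Quotient.mk_surjective).1 hz
    obtain ⟨b, hb, rfl⟩ := hmax' y hy
    rw [← map_mul, Ideal.mem_bot, Ideal.Quotient.eq_zero_iff_mem, mul_comm]
    exact hJT (Ideal.mul_mem_mul hb ha)
  have hk : RingHom.ker π.toRingHom ≤
      RingHom.ker ((Ideal.Quotient.mkₐ R I).comp (Ideal.Quotient.mkₐ R T)).toRingHom := fun a ha => by
    rw [RingHom.mem_ker]
    show Ideal.Quotient.mk I (Ideal.Quotient.mk T a) = 0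
    exact Ideal.Quotient.eq_zero_iff_mem.2 (Ideal.mem_map_of_mem _ (show a ∈ RingHom.ker π from ha))
  let g₀ : S →ₐ[R] (P ⧸ T) ⧸ I := AlgHom.liftOfSurjective π hπ
    ((Ideal.Quotient.mkₐ R I).comp (Ideal.Quotient.mkₐ R T)) hk
  have hg₀ : ∀ a : P, g₀ (π a) = Ideal.Quotient.mk I (Ideal.Quotient.mk T a) := fun a =>
    AlgHom.liftOfSurjective_apply π hπ _ _ a
  obtain ⟨g, hg⟩ := h (P ⧸ T) I hI hIm g₀ (fun b hb => by
      obtain ⟨a, rfl⟩ := hπ b
      rw [hg₀]
      exact Ideal.mem_map_of_mem _ (hmax a (hloc a hb)))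
    (fun a' => by
      obtain ⟨a, rfl⟩ := Ideal.Quotient.mk_surjective a'
      exact ⟨π a, by rw [hg₀, sub_self]; exact zero_mem _⟩)
  have hdiff : ∀ a : P, Ideal.Quotient.mkₐ R T a - g (π a) ∈ I := fun a => by
    rw [← Ideal.Quotient.eq, Ideal.Quotient.mkₐ_eq_mk, ← hg₀]
    exact (DFunLike.congr_fun hg _).symm
  exact Ideal.Quotient.eq_zero_iff_mem.1 (map_eq_zero_of_tensor_eq_zero π (Ideal.Quotient.mkₐ R T) g
    I hIle hIm hdiff K hsK (fun a ha => hmax a (hker ha)) hx hw)

theorem tmul_eq_zero_of_mem_mul {K : Type u} [CommRing K] [Algebra P K] (J : Ideal P) {x : P}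
    (hx : x ∈ J) (hker : maximalIdeal P ≤ RingHom.ker (algebraMap P K))
    (hxm : x ∈ maximalIdeal P * J) : (1 : K) ⊗ₜ[P] (⟨x, hx⟩ : J) = 0 := by
  have hxs : (⟨x, hx⟩ : J) ∈ maximalIdeal P • (⊤ : Submodule P J) :=
    (Submodule.mem_smul_top_iff _ _ _).2 hxm
  have : ∀ y ∈ maximalIdeal P • (⊤ : Submodule P J), (1 : K) ⊗ₜ[P] y = 0 := fun y hy => by
    refine Submodule.smul_induction_on hy (fun a ha y _ => ?_) (fun y z hy hz => ?_)
    · rw [TensorProduct.tmul_smul, TensorProduct.smul_tmul', Algebra.smul_def, mul_one,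
        RingHom.mem_ker.1 (hker ha), TensorProduct.zero_tmul]
    · rw [TensorProduct.tmul_add, hy, hz, add_zero]
  exact this _ hxs

end key

theorem exists_small_quotient {P : Type u} [CommRing P] [IsLocalRing P] [IsNoetherianRing P]
    (J : Ideal P) (hJ : J ≤ maximalIdeal P) :
    ∃ T ≤ maximalIdeal P, IsArtinianRing (P ⧸ T) ∧ maximalIdeal P * J ≤ T ∧
      T ⊓ J ≤ maximalIdeal P * J := by
  obtain ⟨k₀, hk₀⟩ := Ideal.exists_pow_inf_eq_pow_smul (maximalIdeal P) (J : Submodule P P)
  have hAR : maximalIdeal P ^ (k₀ + 1) ⊓ J ≤ maximalIdeal P * J := by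
    have := hk₀ (k₀ + 1) (Nat.le_succ _)
    rw [Ideal.smul_eq_mul, Ideal.mul_top, Nat.add_sub_cancel_left, pow_one] at this
    rw [this, Ideal.smul_eq_mul]
    exact Ideal.mul_mono le_rfl inf_le_right
  have hmJ : maximalIdeal P * J ≤ maximalIdeal P := Ideal.mul_le.2 fun a ha b _ =>
    Ideal.mul_mem_right _ _ ha
  have hT : maximalIdeal P * J ⊔ maximalIdeal P ^ (k₀ + 1) ≤ maximalIdeal P :=
    sup_le hmJ (Ideal.pow_le_self (Nat.succ_ne_zero k₀))
  refine ⟨_, hT, ?_, le_sup_left, ?_⟩
  · haveI : Nontrivial (P ⧸ (maximalIdeal P * J ⊔ maximalIdeal P ^ (k₀ + 1))) :=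
      Ideal.Quotient.nontrivial_iff.2 (ne_top_of_le_ne_top (maximalIdeal.isMaximal P).ne_top hT)
    haveI : IsLocalRing (P ⧸ (maximalIdeal P * J ⊔ maximalIdeal P ^ (k₀ + 1))) :=
      IsLocalRing.of_surjective' (Ideal.Quotient.mk _) Ideal.Quotient.mk_surjective
    refine (isArtinianRing_iff_isNilpotent_maximalIdeal _).2 ⟨k₀ + 1, ?_⟩
    have hle : maximalIdeal (P ⧸ (maximalIdeal P * J ⊔ maximalIdeal P ^ (k₀ + 1))) ≤
        (maximalIdeal P).map (Ideal.Quotient.mk _) := fun y hy => by
      obtain ⟨a, rfl⟩ := Ideal.Quotient.mk_surjective y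
      exact Ideal.mem_map_of_mem _ (fun hu => hy (hu.map _))
    rw [Submodule.zero_eq_bot, ← le_bot_iff]
    refine (Ideal.pow_right_mono hle _).trans ?_
    rw [← Ideal.map_pow, le_bot_iff, Ideal.map_eq_bot_iff_le_ker, Ideal.mk_ker]
    exact le_sup_right
  · rintro x ⟨hxT, hxJ⟩
    obtain ⟨a, ha, b, hb, hab⟩ := Submodule.mem_sup.1 hxT
    have hbJ : b ∈ J := by
      rw [show b = x - a by rw [← hab]; ring]
      exact sub_mem hxJ (Ideal.mul_le_right ha)
    rw [← hab]
    exact add_mem ha (hAR ⟨hb, hbJ⟩)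

/-- The lifting criterion for formal smoothness. -/
theorem formallySmooth_of_smallLift [IsLocalRing S] [IsNoetherianRing R] [Algebra.EssFiniteType R S]
    (h : SmallLift R S) : Algebra.FormallySmooth R S := by
  obtain ⟨m, p, _, φ, hφ⟩ := exists_presentation R S
  let P := Localization.AtPrime p
  let Q := MvPolynomial (Fin m) R
  letI : Algebra P S := φ.toRingHom.toAlgebra
  haveI : IsScalarTower R P S := IsScalarTower.of_algebraMap_eq fun r => (φ.commutes r).symm
  haveI : Algebra.FormallyEtale Q P := .of_isLocalization p.primeCompl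
  haveI : Algebra.FormallySmooth R P := .comp _ Q _
  haveI : Module.Free P Ω[P⁄R] :=
    .of_equiv (KaehlerDifferential.tensorKaehlerEquivOfFormallyEtale R Q P)
  haveI : Algebra.EssFiniteType Q P := .of_isLocalization _ p.primeCompl
  haveI : Algebra.EssFiniteType R P := .comp _ Q _
  haveI : IsNoetherianRing P := IsLocalization.isNoetherianRing p.primeCompl P inferInstance
  rw [Algebra.FormallySmooth.iff_injective_cotangentComplexBaseChange_residueField P hφ
    (IsNoetherian.noetherian _)]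
  have hsK : Function.Surjective (algebraMap P (ResidueField S)) := fun c => by
    obtain ⟨s, rfl⟩ := IsLocalRing.residue_surjective c
    obtain ⟨a, rfl⟩ := hφ s
    exact ⟨a, rfl⟩
  have hker : RingHom.ker (algebraMap P (ResidueField S)) = maximalIdeal P :=
    IsLocalRing.eq_maximalIdeal (RingHom.ker_isMaximal_of_surjective _ hsK)
  have hJm : RingHom.ker (algebraMap P S) ≤ maximalIdeal P := fun a ha hu =>
    not_isUnit_zero (show IsUnit (0 : S) by rw [← RingHom.mem_ker.1 ha]; exact hu.map _)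
  obtain ⟨T, hT, _, hJT, hTJ⟩ := exists_small_quotient (RingHom.ker (algebraMap P S)) hJm
  refine (injective_iff_map_eq_zero _).2 fun w hw => ?_
  obtain ⟨⟨x, hx⟩, rfl⟩ := TensorProduct.mk_surjective P _ (ResidueField S) hsK w
  rw [TensorProduct.mk_apply] at hw ⊢
  rw [KaehlerDifferential.cotangentComplexBaseChange_tmul, one_smul] at hw
  exact tmul_eq_zero_of_mem_mul _ hx hker.ge
    (hTJ ⟨mem_of_smallLift h φ hφ T hT hJT (ResidueField S) hsK hker.le hx hw, hx⟩)

theorem smallLift_of_formallySmooth [Algebra.FormallySmooth R S] : SmallLift R S := by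
  intro A' _ _ _ _ I hI hIm g₀ _ _
  refine Algebra.FormallySmooth.comp_surjective (R := R) (A := S) I ?_ g₀
  rw [pow_two, ← le_bot_iff]
  exact (Ideal.mul_mono le_rfl (IsLocalRing.le_maximalIdeal hI)).trans hIm.le

/-- A derivation into a vector space over the residue field as a pair of lifts. -/
theorem derivation_eq_zero_of_unique {R S : Type u} [CommRing R] [CommRing S] [Algebra R S]
    [IsLocalRing S] {K V : Type u} [Field K] [Algebra R K] [Algebra S K] [IsScalarTower R S K]
    (hsK : Function.Surjective (algebraMap S K))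
    (hker : ∀ b : S, ¬ IsUnit b → algebraMap S K b = 0)
    [AddCommGroup V] [Module K V] [Module.Finite K V] [Module R V] [IsScalarTower R K V] [Module S V]
    [IsScalarTower S K V] [IsScalarTower R S V] (D : Derivation R S V)
    (h : ∀ (A' : Type u) [CommRing A'] [IsLocalRing A'] [IsArtinianRing A'] [Algebra R A']
      (I : Ideal A'), I ≠ ⊤ → I * maximalIdeal A' = ⊥ →
      ∀ g₁ g₂ : S →ₐ[R] A', (Ideal.Quotient.mkₐ R I).comp g₁ = (Ideal.Quotient.mkₐ R I).comp g₂ →
        (∀ b : S, ¬ IsUnit b → g₁ b ∈ maximalIdeal A') →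
        (∀ a' : A', ∃ b : S, g₁ b - a' ∈ maximalIdeal A') → g₁ = g₂) : D = 0 := by
  letI : Module Kᵐᵒᵖ V := Module.compHom V (RingHom.fromOpposite (RingHom.id K) mul_comm)
  haveI : IsCentralScalar K V := ⟨fun _ _ => rfl⟩
  haveI : IsScalarTower R Kᵐᵒᵖ V := ⟨fun r c v => smul_assoc r c.unop v⟩
  haveI : IsLocalRing (TrivSqZeroExt K V) := IsLocalRing.of_isUnit_or_isUnit_one_sub_self fun z => by
    rw [TrivSqZeroExt.isUnit_iff_isUnit_fst, TrivSqZeroExt.isUnit_iff_isUnit_fst]
    simp only [TrivSqZeroExt.fst_sub, TrivSqZeroExt.fst_one, isUnit_iff_ne_zero]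
    by_cases hz : z.fst = 0
    · exact Or.inr (by simp [hz])
    · exact Or.inl hz
  have hmax : ∀ z : TrivSqZeroExt K V, z ∈ maximalIdeal (TrivSqZeroExt K V) ↔ z.fst = 0 := fun z => by
    rw [mem_maximalIdeal, mem_nonunits_iff, TrivSqZeroExt.isUnit_iff_isUnit_fst, isUnit_iff_ne_zero,
      not_not]
  haveI : Module.Finite K (TrivSqZeroExt K V) := Module.Finite.prod
  haveI : IsArtinianRing (TrivSqZeroExt K V) := IsArtinianRing.of_finite K _
  let I : Ideal (TrivSqZeroExt K V) := RingHom.ker (TrivSqZeroExt.fstHom K K V)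
  have hI : I ≠ ⊤ := fun hh => by
    have h1 : (1 : TrivSqZeroExt K V) ∈ I := hh ▸ trivial
    exact one_ne_zero (h1 : (1 : TrivSqZeroExt K V).fst = 0)
  have hIm : I * maximalIdeal (TrivSqZeroExt K V) = ⊥ := by
    refine le_bot_iff.1 (Ideal.mul_le.2 fun z hz y hy => ?_)
    have h1 : z.fst = 0 := hz
    have h2 := (hmax y).1 hy
    rw [Ideal.mem_bot]
    refine TrivSqZeroExt.ext ?_ ?_ <;> simp [h1, h2]
  let g₁ : S →ₐ[R] TrivSqZeroExt K V :=
    ((TrivSqZeroExt.inlAlgHom K K V).restrictScalars R).comp (IsScalarTower.toAlgHom R S K)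
  let g₂ : S →ₐ[R] TrivSqZeroExt K V :=
    { toFun := fun s => TrivSqZeroExt.inl (algebraMap S K s) + TrivSqZeroExt.inr (D s)
      map_one' := by simp
      map_mul' := fun a b => by
        refine TrivSqZeroExt.ext ?_ ?_
        · simp
        · simp [algebraMap_smul, add_comm]
      map_zero' := by simp
      map_add' := fun a b => by
        refine TrivSqZeroExt.ext ?_ ?_ <;> simp
      commutes' := fun r => by
        refine TrivSqZeroExt.ext ?_ ?_
        · simp [TrivSqZeroExt.algebraMap_eq_inl', ← IsScalarTower.algebraMap_apply R S K]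
        · simp [TrivSqZeroExt.algebraMap_eq_inl'] }
  have hg : g₁ = g₂ := h _ I hI hIm g₁ g₂ (AlgHom.ext fun s => Ideal.Quotient.eq.2 (by
      show ((TrivSqZeroExt.inl (algebraMap S K s) : TrivSqZeroExt K V) -
        (TrivSqZeroExt.inl (algebraMap S K s) + TrivSqZeroExt.inr (D s))).fst = 0
      simp))
    (fun b hb => (hmax _).2 (hker b hb))
    (fun a' => by
      obtain ⟨b, hb⟩ := hsK a'.fst
      refine ⟨b, (hmax _).2 ?_⟩
      show ((TrivSqZeroExt.inl (algebraMap S K b) : TrivSqZeroExt K V) - a').fst = 0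
      simp [hb])
  refine Derivation.ext fun s => ?_
  have h2 : (TrivSqZeroExt.inl (algebraMap S K s) + TrivSqZeroExt.inr (D s) : TrivSqZeroExt K V).snd =
      (TrivSqZeroExt.inl (algebraMap S K s) : TrivSqZeroExt K V).snd :=
    congrArg TrivSqZeroExt.snd (DFunLike.congr_fun hg s).symm
  simpa using h2

/-- Two lifts agree only if the differentials vanish at the closed point. -/
theorem formallyUnramified_of_unique [IsLocalRing S] [Algebra.EssFiniteType R S]
    (h : ∀ (A' : Type u) [CommRing A'] [IsLocalRing A'] [IsArtinianRing A'] [Algebra R A']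
      (I : Ideal A'), I ≠ ⊤ → I * maximalIdeal A' = ⊥ →
      ∀ g₁ g₂ : S →ₐ[R] A', (Ideal.Quotient.mkₐ R I).comp g₁ = (Ideal.Quotient.mkₐ R I).comp g₂ →
        (∀ b : S, ¬ IsUnit b → g₁ b ∈ maximalIdeal A') →
        (∀ a' : A', ∃ b : S, g₁ b - a' ∈ maximalIdeal A') → g₁ = g₂) :
    Algebra.FormallyUnramified R S := by
  let mk := ((TensorProduct.mk S (ResidueField S) Ω[S⁄R]) 1).compDer (KaehlerDifferential.D R S)
  have hD : mk = 0 := derivation_eq_zero_of_unique (K := ResidueField S) residue_surjective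
    (fun b hb => (residue_eq_zero_iff b).2 hb) mk h
  have hV : Subsingleton (ResidueField S ⊗[S] Ω[S⁄R]) := by
    refine subsingleton_of_forall_eq 0 fun v => ?_
    obtain ⟨w, rfl⟩ := TensorProduct.mk_surjective S _ (ResidueField S) residue_surjective v
    have hw : w ∈ Submodule.span S (Set.range (KaehlerDifferential.D R S)) := by
      rw [KaehlerDifferential.span_range_derivation]; trivial
    induction hw using Submodule.span_induction with
    | mem y hy => obtain ⟨s, rfl⟩ := hy; exact DFunLike.congr_fun hD s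
    | zero => simp
    | add a b _ _ ha hb => simp only [map_add, ha, hb, add_zero]
    | smul a y _ hy => rw [map_smul, hy, smul_zero]
  exact ⟨(IsLocalRing.subsingleton_tensorProduct (R := S) (M := Ω[S⁄R])).1 hV⟩

end GrothLib.LiftTest
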