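import Groth.Agent.Lib.LiftTest.Thickening
import Mathlib.RingTheory.Kaehler.Basic
import Mathlib.Algebra.TrivSqZeroExt.Basic

/-!
# Formal unramifiedness of a stalk map and uniqueness of lifts against thickenings of local schemes
-/

universe u

namespace GrothLib.LiftTest

open CategoryTheory AlgebraicGeometry IsLocalRing

variable {X Y : Scheme.{u}} (f : X ⟶ Y) (x : X)

/-- Uniqueness of lifts against square zero thickenings of local schemes at `x`. -/
def UniqueLifts : Prop :=
  ∀ (B B' : Type u) [CommRing B] [CommRing B'] [IsLocalRing B] [IsLocalRing B'] (φ : B' →+* B),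
    Function.Surjective φ → RingHom.ker φ ^ 2 = ⊥ →
    ∀ (α : Spec (CommRingCat.of B) ⟶ X) (β : Spec (CommRingCat.of B') ⟶ Y),
      α.base (IsLocalRing.closedPoint B) = x → Spec.map (CommRingCat.ofHom φ) ≫ β = α ≫ f →
      ∀ γ₁ γ₂ : Spec (CommRingCat.of B') ⟶ X,
        Spec.map (CommRingCat.ofHom φ) ≫ γ₁ = α → γ₁ ≫ f = β →
        Spec.map (CommRingCat.ofHom φ) ≫ γ₂ = α → γ₂ ≫ f = β → γ₁ = γ₂

theorem uniqueLifts_of_formallyUnramified (h : (f.stalkMap x).hom.FormallyUnramified) :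
    UniqueLifts f x := by
  intro B B' _ _ _ _ φ hφ hφ2 α β hα _ γ₁ γ₂ h1 h1' h2 h2'
  haveI := isLocalHom_of_surjective φ hφ
  have hc : ∀ γ : Spec (CommRingCat.of B') ⟶ X, Spec.map (CommRingCat.ofHom φ) ≫ γ = α →
      γ (closedPoint B') = x := fun γ hγ => by
    rw [← Spec_map_closedPoint φ, ← Scheme.Hom.comp_apply, hγ]
    exact hα
  obtain ⟨g₁, _, rfl⟩ := exists_fac γ₁ x (hc _ h1)
  obtain ⟨g₂, _, rfl⟩ := exists_fac γ₂ x (hc _ h2)
  have hφg := h1.trans h2.symm
  rw [← Spec.map_comp_assoc, ← Spec.map_comp_assoc, cancel_mono] at hφg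
  have hφg' : φ.comp g₁.hom = φ.comp g₂.hom :=
    congrArg CommRingCat.Hom.hom (Spec.map_injective hφg)
  have hfg := h1'.trans h2'.symm
  rw [Category.assoc, Category.assoc, ← Scheme.SpecMap_stalkMap_fromSpecStalk,
    ← Spec.map_comp_assoc, ← Spec.map_comp_assoc, cancel_mono] at hfg
  have hfg' : g₁.hom.comp (f.stalkMap x).hom = g₂.hom.comp (f.stalkMap x).hom :=
    congrArg CommRingCat.Hom.hom (Spec.map_injective hfg)
  letI : Algebra (Y.presheaf.stalk (f x)) (X.presheaf.stalk x) := (f.stalkMap x).hom.toAlgebra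
  haveI : Algebra.FormallyUnramified (Y.presheaf.stalk (f x)) (X.presheaf.stalk x) := h
  letI : Algebra (Y.presheaf.stalk (f x)) B' := (g₁.hom.comp (f.stalkMap x).hom).toAlgebra
  let G₁ : X.presheaf.stalk x →ₐ[Y.presheaf.stalk (f x)] B' := { g₁.hom with commutes' := fun _ => rfl }
  let G₂ : X.presheaf.stalk x →ₐ[Y.presheaf.stalk (f x)] B' :=
    { g₂.hom with commutes' := fun r => (DFunLike.congr_fun hfg' r).symm }
  have hG : G₁ = G₂ := Algebra.FormallyUnramified.comp_injective (RingHom.ker φ) hφ2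
    (AlgHom.ext fun s => Ideal.Quotient.eq.2 (by
      rw [RingHom.mem_ker, map_sub, sub_eq_zero]
      exact DFunLike.congr_fun hφg' s))
  have hg : g₁ = g₂ := CommRingCat.hom_ext (RingHom.ext fun s => DFunLike.congr_fun hG s)
  rw [hg]

/-- The universal derivation as a pair of sections of a square zero local extension. -/
theorem exists_test_sections (R S : Type u) [CommRing R] [CommRing S] [IsLocalRing S] [Algebra R S] :
    ∃ (B' : Type u) (_ : CommRing B') (_ : IsLocalRing B') (φ : B' →+* S) (g₁ g₂ : S →+* B'),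
      Function.Surjective φ ∧ RingHom.ker φ ^ 2 = ⊥ ∧ φ.comp g₁ = RingHom.id S ∧
      φ.comp g₂ = RingHom.id S ∧ g₁.comp (algebraMap R S) = g₂.comp (algebraMap R S) ∧
      (g₁ = g₂ → Algebra.FormallyUnramified R S) := by
  letI : Module Sᵐᵒᵖ Ω[S⁄R] := Module.compHom _ (RingHom.fromOpposite (RingHom.id S) mul_comm)
  haveI : IsCentralScalar S Ω[S⁄R] := ⟨fun _ _ => rfl⟩
  haveI : IsLocalRing (TrivSqZeroExt S Ω[S⁄R]) := IsLocalRing.of_isUnit_or_isUnit_one_sub_self fun z => by
    rw [TrivSqZeroExt.isUnit_iff_isUnit_fst, TrivSqZeroExt.isUnit_iff_isUnit_fst]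
    simp only [TrivSqZeroExt.fst_sub, TrivSqZeroExt.fst_one]
    exact IsLocalRing.isUnit_or_isUnit_one_sub_self _
  let φ : TrivSqZeroExt S Ω[S⁄R] →+* S := (TrivSqZeroExt.fstHom S S Ω[S⁄R]).toRingHom
  have hφ2 : RingHom.ker φ ^ 2 = ⊥ := by
    rw [pow_two, ← le_bot_iff, Ideal.mul_le]
    intro a ha b hb
    have h1 : a.fst = 0 := ha
    have h2 : b.fst = 0 := hb
    rw [Ideal.mem_bot]
    refine TrivSqZeroExt.ext ?_ ?_ <;> simp [h1, h2]
  let g₁ : S →+* TrivSqZeroExt S Ω[S⁄R] := TrivSqZeroExt.inlHom S Ω[S⁄R]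
  let g₂ : S →+* TrivSqZeroExt S Ω[S⁄R] :=
    { toFun := fun s => TrivSqZeroExt.inl s + TrivSqZeroExt.inr (KaehlerDifferential.D R S s)
      map_one' := by simp
      map_mul' := fun a b => by
        refine TrivSqZeroExt.ext ?_ ?_
        · simp
        · simp [add_comm]
      map_zero' := by simp
      map_add' := fun a b => by
        refine TrivSqZeroExt.ext ?_ ?_ <;> simp }
  refine ⟨TrivSqZeroExt S Ω[S⁄R], inferInstance, inferInstance, φ, g₁, g₂,
    fun s => ⟨TrivSqZeroExt.inl s, TrivSqZeroExt.fst_inl Ω[S⁄R] s⟩, hφ2,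
    RingHom.ext fun s => TrivSqZeroExt.fst_inl Ω[S⁄R] s, RingHom.ext fun s => by simp [φ, g₂],
    RingHom.ext fun r => by simp [g₁, g₂], fun h => ?_⟩
  refine ⟨subsingleton_of_forall_eq 0 fun w => ?_⟩
  have hD : ∀ s : S, KaehlerDifferential.D R S s = 0 := fun s => by
    have := congrArg TrivSqZeroExt.snd (DFunLike.congr_fun h.symm s)
    simpa [g₁, g₂] using this
  have hw : w ∈ Submodule.span S (Set.range (KaehlerDifferential.D R S)) := by
    rw [KaehlerDifferential.span_range_derivation]; trivial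
  have hle : Submodule.span S (Set.range (KaehlerDifferential.D R S)) ≤ ⊥ :=
    Submodule.span_le.2 (by rintro _ ⟨s, rfl⟩; exact hD s)
  exact hle hw

theorem formallyUnramified_of_uniqueLifts (H : UniqueLifts f x) :
    (f.stalkMap x).hom.FormallyUnramified := by
  letI : Algebra (Y.presheaf.stalk (f x)) (X.presheaf.stalk x) := (f.stalkMap x).hom.toAlgebra
  obtain ⟨B', _, _, φ, g₁, g₂, hφ, hφ2, h₁, h₂, hR, hD⟩ :=
    exists_test_sections (Y.presheaf.stalk (f x)) (X.presheaf.stalk x)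
  have h := H (X.presheaf.stalk x) B' φ hφ hφ2 (X.fromSpecStalk x)
    (Spec.map (CommRingCat.ofHom g₁) ≫ X.fromSpecStalk x ≫ f) Scheme.fromSpecStalk_closedPoint
    (by
      rw [← Spec.map_comp_assoc, ← CommRingCat.ofHom_comp, h₁, CommRingCat.ofHom_id, Spec.map_id,
        Category.id_comp])
    (Spec.map (CommRingCat.ofHom g₁) ≫ X.fromSpecStalk x)
    (Spec.map (CommRingCat.ofHom g₂) ≫ X.fromSpecStalk x)
    (by
      rw [← Spec.map_comp_assoc, ← CommRingCat.ofHom_comp, h₁, CommRingCat.ofHom_id, Spec.map_id,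
        Category.id_comp])
    (Category.assoc _ _ _)
    (by
      rw [← Spec.map_comp_assoc, ← CommRingCat.ofHom_comp, h₂, CommRingCat.ofHom_id, Spec.map_id,
        Category.id_comp])
    (by
      rw [Category.assoc, ← Scheme.SpecMap_stalkMap_fromSpecStalk, ← Spec.map_comp_assoc,
        ← Spec.map_comp_assoc]
      congr 2
      exact CommRingCat.hom_ext (show g₂.comp (f.stalkMap x).hom = g₁.comp (f.stalkMap x).hom from hR.symm))
  rw [cancel_mono] at h
  exact hD (congrArg CommRingCat.Hom.hom (Spec.map_injective h))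

end GrothLib.LiftTest
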